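import Groth.Agent.Lib.WEtSch4
import Groth.Agent.Lib.WLocal.Contractible
import Groth.Agent.S7127
import Mathlib.RingTheory.Flat.Localization

/-!
Weak étaleness is detected on local rings.
-/

open CategoryTheory AlgebraicGeometry TensorProduct TopologicalSpace

universe u

namespace Groth.Agent.WEStalk

set_option linter.style.haveILetI false
set_option backward.isDefEq.respectTransparency.types false

lemma weaklyEtale_of_isLocalization {A : Type u} [CommRing A] (M : Submonoid A) (A' : Type u)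
    [CommRing A'] [Algebra A A'] [IsLocalization M A'] : Algebra.WeaklyEtale A A' :=
  WEtaleH7.weaklyEtale_of_isIndEtale
    (WLocal.isIndEtale_of_isIndZariski (WLocal.isIndZariski_of_isLocalization M A'))

lemma weaklyEtale_of_local {A B : Type u} [CommRing A] [CommRing B] [Algebra A B]
    (S : ∀ (P : Ideal B) [P.IsMaximal], Type u) [∀ (P : Ideal B) [P.IsMaximal], CommRing (S P)]
    [∀ (P : Ideal B) [P.IsMaximal], Algebra B (S P)]
    [∀ (P : Ideal B) [P.IsMaximal], Algebra A (S P)]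
    [∀ (P : Ideal B) [P.IsMaximal], IsScalarTower A B (S P)]
    [∀ (P : Ideal B) [P.IsMaximal], IsLocalization.AtPrime (S P) P]
    (h : ∀ (P : Ideal B) [P.IsMaximal], Algebra.WeaklyEtale A (S P)) : Algebra.WeaklyEtale A B := by
  have hloc : ∀ (P : Ideal B) [P.IsMaximal], IsLocalizedModule.AtPrime P (Algebra.linearMap B (S P)) :=
    fun P _ ↦ (isLocalizedModule_iff_isLocalization' P.primeCompl (S P)).2 inferInstance
  refine ⟨?_, ?_⟩
  · exact Module.flat_of_isLocalized_maximal (R := A) B B S (fun P _ ↦ Algebra.linearMap B (S P))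
      fun P _ ↦ (h P).flat
  · algebraize [(Algebra.TensorProduct.lmul' A (S := B)).toRingHom]
    letI : ∀ (P : Ideal B) [P.IsMaximal], Algebra (B ⊗[A] B) (S P) := fun P _ ↦
      ((algebraMap B (S P)).comp (Algebra.TensorProduct.lmul' A (S := B)).toRingHom).toAlgebra
    haveI : ∀ (P : Ideal B) [P.IsMaximal], IsScalarTower (B ⊗[A] B) B (S P) := fun P _ ↦
      IsScalarTower.of_algebraMap_eq fun _ ↦ rfl
    refine Module.flat_of_isLocalized_maximal (R := B ⊗[A] B) B B S
      (fun P _ ↦ Algebra.linearMap B (S P)) fun P _ ↦ ?_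
    let g : B →ₐ[A] S P := IsScalarTower.toAlgHom A B (S P)
    have hg : (g : B →+* S P).Flat := by
      show (algebraMap B (S P)).Flat
      exact RingHom.flat_algebraMap_iff.2 (IsLocalization.flat (S P) P.primeCompl)
    have h1 : ((Algebra.TensorProduct.lmul' A (S := S P)).comp
        (Algebra.TensorProduct.map g g)).toRingHom.Flat :=
      RingHom.Flat.comp (RingHom.Flat.tensorProductMap hg hg) (h P).flat_lmul'
    have h2 : algebraMap (B ⊗[A] B) (S P) = ((Algebra.TensorProduct.lmul' A (S := S P)).comp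
        (Algebra.TensorProduct.map g g)).toRingHom := by
      have : g.comp (Algebra.TensorProduct.lmul' A (S := B)) =
          (Algebra.TensorProduct.lmul' A (S := S P)).comp (Algebra.TensorProduct.map g g) := by
        ext <;> simp [g]
      exact congrArg AlgHom.toRingHom this
    rw [← RingHom.flat_algebraMap_iff, h2]
    exact h1

theorem weaklyEtale_iff_stalkMaps {X Y : Scheme.{u}} (f : X ⟶ Y) :
    WeaklyEtale f ↔ ∀ x : X, (f.stalkMap x).hom.Flat ∧
      (letI := (f.stalkMap x).hom.toAlgebra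
       (Algebra.TensorProduct.lmul' (S := ↑(X.presheaf.stalk x))
        (↑(Y.presheaf.stalk (f x)))).toRingHom.Flat) := by
  have key : ∀ (U : X.Opens) (V : Y.Opens) (e : U ≤ f ⁻¹ᵁ V) (x : X) (hx : x ∈ U),
      f.appLE V U e ≫ X.presheaf.germ U x hx = Y.presheaf.germ V (f x) (e hx) ≫ f.stalkMap x := by
    intro U V e x hx
    rw [Scheme.Hom.appLE, Category.assoc, TopCat.Presheaf.germ_res]
    exact (f.germ_stalkMap V x (e hx)).symm
  constructor
  · intro hf x
    letI := (f.stalkMap x).hom.toAlgebra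
    suffices Algebra.WeaklyEtale (Y.presheaf.stalk (f x)) (X.presheaf.stalk x) from
      ⟨this.flat, this.flat_lmul'⟩
    obtain ⟨V, hV, hxV, -⟩ := exists_isAffineOpen_mem_and_subset (x := f x) (U := (⊤ : Y.Opens)) trivial
    obtain ⟨U, hU, hxU, hUV⟩ := exists_isAffineOpen_mem_and_subset (x := x) (U := f ⁻¹ᵁ V) hxV
    have hw := (WEtSch4.weaklyEtale_resLE_iff f U V hU hV hUV).1 (WEtSch4.weaklyEtale_resLE f U V hUV)
    letI := (f.appLE V U hUV).hom.toAlgebra
    haveI : Algebra.WeaklyEtale Γ(Y, V) Γ(X, U) := hw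
    letI : Algebra Γ(Y, V) (Y.presheaf.stalk (f x)) := Y.presheaf.algebra_section_stalk ⟨f x, hxV⟩
    letI : Algebra Γ(X, U) (X.presheaf.stalk x) := X.presheaf.algebra_section_stalk ⟨x, hxU⟩
    letI : Algebra Γ(Y, V) (X.presheaf.stalk x) :=
      ((algebraMap Γ(X, U) (X.presheaf.stalk x)).comp (f.appLE V U hUV).hom).toAlgebra
    haveI : IsScalarTower Γ(Y, V) Γ(X, U) (X.presheaf.stalk x) := IsScalarTower.of_algebraMap_eq fun _ ↦ rfl
    haveI : IsScalarTower Γ(Y, V) (Y.presheaf.stalk (f x)) (X.presheaf.stalk x) :=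
      IsScalarTower.of_algebraMap_eq' (congrArg CommRingCat.Hom.hom (key U V hUV x hxU))
    haveI := hV.isLocalization_stalk ⟨f x, hxV⟩
    haveI := hU.isLocalization_stalk ⟨x, hxU⟩
    haveI : Algebra.WeaklyEtale Γ(X, U) (X.presheaf.stalk x) :=
      weaklyEtale_of_isLocalization (hU.primeIdealOf ⟨x, hxU⟩).asIdeal.primeCompl _
    haveI : Algebra.WeaklyEtale Γ(Y, V) (Y.presheaf.stalk (f x)) :=
      weaklyEtale_of_isLocalization (hV.primeIdealOf ⟨f x, hxV⟩).asIdeal.primeCompl _
    haveI : Algebra.WeaklyEtale Γ(Y, V) (X.presheaf.stalk x) :=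
      Algebra.WeaklyEtale.trans Γ(Y, V) Γ(X, U) _
    exact S7127.result Γ(Y, V) _ _
  · intro h
    refine WEtSch4.weaklyEtale_of_charts f fun U V hU hV e ↦ ?_
    refine (WEtSch4.weaklyEtale_resLE_iff f U V hU hV e).2 ?_
    letI := (f.appLE V U e).hom.toAlgebra
    let pt : ∀ (P : Ideal Γ(X, U)) [P.IsMaximal], PrimeSpectrum Γ(X, U) := fun P _ ↦ ⟨P, inferInstance⟩
    have hmem : ∀ (P : Ideal Γ(X, U)) [P.IsMaximal], hU.fromSpec (pt P) ∈ U := fun P _ ↦ by
      have : hU.fromSpec (pt P) ∈ Set.range hU.fromSpec := ⟨_, rfl⟩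
      rwa [hU.range_fromSpec] at this
    letI iB : ∀ (P : Ideal Γ(X, U)) [P.IsMaximal], Algebra Γ(X, U) (X.presheaf.stalk (hU.fromSpec (pt P))) :=
      fun P _ ↦ X.presheaf.algebra_section_stalk ⟨_, hmem P⟩
    letI iA : ∀ (P : Ideal Γ(X, U)) [P.IsMaximal], Algebra Γ(Y, V) (X.presheaf.stalk (hU.fromSpec (pt P))) :=
      fun P _ ↦ ((algebraMap Γ(X, U) _).comp (f.appLE V U e).hom).toAlgebra
    haveI iT : ∀ (P : Ideal Γ(X, U)) [P.IsMaximal],
        IsScalarTower Γ(Y, V) Γ(X, U) (X.presheaf.stalk (hU.fromSpec (pt P))) :=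
      fun P _ ↦ IsScalarTower.of_algebraMap_eq fun _ ↦ rfl
    haveI iL : ∀ (P : Ideal Γ(X, U)) [P.IsMaximal],
        IsLocalization.AtPrime (X.presheaf.stalk (hU.fromSpec (pt P))) P := fun P _ ↦
      hU.isLocalization_stalk' (pt P) (hmem P)
    refine @weaklyEtale_of_local _ _ _ _ _ (fun P _ ↦ X.presheaf.stalk (hU.fromSpec (pt P))) (fun P _ ↦ inferInstance) iB iA iT iL fun P _ ↦ ?_
    let x := hU.fromSpec (pt P)
    letI := (f.stalkMap x).hom.toAlgebra
    haveI : Algebra.WeaklyEtale (Y.presheaf.stalk (f x)) (X.presheaf.stalk x) := ⟨(h x).1, (h x).2⟩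
    letI : Algebra Γ(Y, V) (Y.presheaf.stalk (f x)) := Y.presheaf.algebra_section_stalk ⟨f x, e (hmem P)⟩
    haveI : IsScalarTower Γ(Y, V) (Y.presheaf.stalk (f x)) (X.presheaf.stalk x) :=
      IsScalarTower.of_algebraMap_eq' (congrArg CommRingCat.Hom.hom (key U V e x (hmem P)))
    haveI := hV.isLocalization_stalk ⟨f x, e (hmem P)⟩
    haveI : Algebra.WeaklyEtale Γ(Y, V) (Y.presheaf.stalk (f x)) :=
      weaklyEtale_of_isLocalization (hV.primeIdealOf ⟨f x, e (hmem P)⟩).asIdeal.primeCompl _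
    exact Algebra.WeaklyEtale.trans Γ(Y, V) (Y.presheaf.stalk (f x)) _

end Groth.Agent.WEStalk
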